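import Mathlib
import Cfsg.Prelude.Def_LocalStructure

/-!
# Subnormal subgroups and the subnormal closure
-/

namespace CfsgLib.Subnormal

set_option autoImplicit false
set_option linter.style.haveILetI false

variable {G : Type*} [Group G]

/-- In a finite nilpotent group every subgroup is subnormal. -/
theorem isSubnormal_of_isNilpotent [Finite G] [Group.IsNilpotent G] (H : Subgroup G) :
    H.IsSubnormal := by
  induction H using WellFoundedGT.induction with
  | ind H ih =>
    rcases eq_or_ne H ⊤ with rfl | hne
    · exact Subgroup.IsSubnormal.top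
    · exact Subgroup.IsSubnormal.step H _ Subgroup.le_normalizer
        (ih _ (Group.normalizerCondition_of_isNilpotent H (lt_top_iff_ne_top.mpr hne)))
        Subgroup.normal_in_normalizer

/-- A subgroup whose join with a normal subgroup with nilpotent quotient. -/
theorem sup_isSubnormal_of_quotient [Finite G] (H N : Subgroup G) [N.Normal]
    [Group.IsNilpotent (G ⧸ N)] : (H ⊔ N).IsSubnormal := by
  have h := (isSubnormal_of_isNilpotent (H.map (QuotientGroup.mk' N))).comap (QuotientGroup.mk' N)
  rwa [Subgroup.comap_map_eq, QuotientGroup.ker_mk'] at h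

theorem isSubnormal_sInf [Finite G] (S : Set (Subgroup G)) (h : ∀ H ∈ S, H.IsSubnormal) :
    (sInf S).IsSubnormal := by
  suffices hh : ∀ T : Set (Subgroup G), T.Finite → (∀ H ∈ T, H.IsSubnormal) → (sInf T).IsSubnormal
    from hh S (Set.toFinite S) h
  intro T hT
  induction T, hT using Set.Finite.induction_on with
  | empty => intro _; simpa using Subgroup.IsSubnormal.top
  | @insert a t _ _ ih =>
    intro h
    rw [sInf_insert]
    exact (h a (Set.mem_insert a t)).inf (ih fun H hH => h H (Set.mem_insert_of_mem a hH))

theorem subnormalClosure_isSubnormal [Finite G] (A : Subgroup G) :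
    (Cfsg.subnormalClosure A).IsSubnormal :=
  isSubnormal_sInf _ fun _ hK => hK.2

theorem le_subnormalClosure (A : Subgroup G) : A ≤ Cfsg.subnormalClosure A :=
  le_sInf fun _ hK => hK.1

theorem subnormalClosure_le {A K : Subgroup G} (hA : A ≤ K) (hK : K.IsSubnormal) :
    Cfsg.subnormalClosure A ≤ K :=
  sInf_le ⟨hA, hK⟩

/-- Subnormal in a subnormal subgroup. -/
theorem isSubnormal_map_subtype {K : Subgroup G} {H : Subgroup K} (hH : H.IsSubnormal)
    (hK : K.IsSubnormal) : (H.map K.subtype).IsSubnormal :=
  hH.trans' hK

end CfsgLib.Subnormal
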