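import Mathlib

/-!
# Wielandt: minimal normal subgroups normalize subnormal subgroups; joins of subnormal subgroups
-/

set_option autoImplicit false
set_option linter.style.haveILetI false

open scoped Pointwise

namespace CfsgLib.Subnormal

universe u

theorem minimal_normal_le_normalizer_aux (n : ℕ) : ∀ (G : Type u) [Group G] [Finite G], Nat.card G = n →
    ∀ S N : Subgroup G, S.IsSubnormal → N.Normal →
      (∀ K : Subgroup G, K.Normal → K ≠ ⊥ → K ≤ N → K = N) → N ≤ Subgroup.normalizer (S : Set G) := by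
  induction n using Nat.strong_induction_on with
  | _ n IH =>
  intro G _ _ hn S N hS hNn hmin
  haveI := hNn
  rcases hS.lt_normal with rfl | ⟨M, hMn, hSM, hMlt⟩
  · rw [Subgroup.normalizer_eq_top]
    exact le_top
  haveI := hMn
  by_cases hNM : N ≤ M
  swap
  · have h0 : N ⊓ M = ⊥ := by
      by_contra h0
      exact hNM (inf_eq_left.mp (hmin _ inferInstance h0 inf_le_left))
    refine le_trans ?_ (Subgroup.centralizer_le_normalizer _)
    intro x hx
    rw [Subgroup.mem_centralizer_iff]
    intro s hs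
    exact (Subgroup.commute_of_normal_of_disjoint N M hNn hMn (disjoint_iff.mpr h0) x s hx (hSM hs)).symm
  rcases eq_or_ne N ⊥ with rfl | hN
  · exact bot_le
  haveI : Finite (Subgroup M) := Finite.of_injective (fun K => (K : Set M)) SetLike.coe_injective
  set D : Set (Subgroup M) := {K | K ≤ N.subgroupOf M ∧ K.Normal ∧ K ≠ ⊥ ∧
    ∀ L : Subgroup M, L.Normal → L ≠ ⊥ → L ≤ K → L = K}
  set T : Subgroup G := (sSup D).map M.subtype
  have hMcard : Nat.card M < n := by
    subst hn
    refine lt_of_le_of_ne (Nat.le_of_dvd Nat.card_pos M.card_subgroup_dvd_card) fun e => hMlt.ne ?_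
    exact Subgroup.eq_top_of_card_eq M e
  have hTn : T.Normal := by
    refine ⟨fun x hx g => ?_⟩
    obtain ⟨m, hm, rfl⟩ := hx
    have h1 : (MulAut.conjNormal g : MulAut M).toMonoidHom m ∈
        (sSup D).map (MulAut.conjNormal g : MulAut M).toMonoidHom := Subgroup.mem_map_of_mem _ hm
    rw [sSup_eq_iSup', Subgroup.map_iSup] at h1
    refine ⟨(MulAut.conjNormal g : MulAut M) m, ?_, by simp⟩
    refine (iSup_le ?_ : (⨆ K : D, (K : Subgroup M).map (MulAut.conjNormal g : MulAut M).toMonoidHom) ≤ sSup D) h1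
    rintro ⟨K, hKN, hKn, hK0, hKmin⟩
    refine le_sSup ⟨?_, ?_, ?_, ?_⟩
    · rintro _ ⟨y, hy, rfl⟩
      rw [Subgroup.mem_subgroupOf]
      simpa using hNn.conj_mem _ (Subgroup.mem_subgroupOf.mp (hKN hy)) g
    · exact Subgroup.Normal.map hKn _ (MulEquiv.surjective _)
    · exact fun e => hK0 ((Subgroup.map_eq_bot_iff_of_injective _ (MulEquiv.injective _)).mp e)
    · intro L hL hL0 hle
      have h2 := hKmin (L.comap (MulAut.conjNormal g : MulAut M).toMonoidHom) (hL.comap _)
        (fun e => hL0 (by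
          rw [← Subgroup.map_comap_eq_self_of_surjective (MulEquiv.surjective (MulAut.conjNormal g : MulAut M)) L]
          erw [e, Subgroup.map_bot]))
        (by
          intro y hy
          obtain ⟨z, hz, he⟩ := hle hy
          rwa [← (MulAut.conjNormal g : MulAut M).injective he])
      show L = K.map (MulAut.conjNormal g : MulAut M).toMonoidHom
      exact ((congrArg (Subgroup.map (MulAut.conjNormal g : MulAut M).toMonoidHom) h2).symm.trans
        (Subgroup.map_comap_eq_self_of_surjective (MulEquiv.surjective _) L)).symm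
  have hTN : T ≤ N := by
    rw [Subgroup.map_le_iff_le_comap]
    exact sSup_le fun K hK => hK.1
  have hT0 : T ≠ ⊥ := by
    have hNM0 : N.subgroupOf M ≠ ⊥ := fun e => hN (by
      rw [Subgroup.subgroupOf_eq_bot, disjoint_iff, inf_eq_left.mpr hNM] at e
      exact e)
    obtain ⟨K, hKN, ⟨hKn, hK0⟩, hKmin⟩ := (Set.toFinite {K : Subgroup M | K.Normal ∧ K ≠ ⊥}).exists_le_minimal
      (show N.subgroupOf M ∈ {K : Subgroup M | K.Normal ∧ K ≠ ⊥} from ⟨inferInstance, hNM0⟩)
    intro e
    have hK : K ∈ D := ⟨hKN, hKn, hK0, fun L hL hL0 hle => le_antisymm hle (hKmin ⟨hL, hL0⟩ hle)⟩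
    rw [Subgroup.map_eq_bot_iff_of_injective _ M.subtype_injective] at e
    exact hK0 (le_bot_iff.mp (e ▸ le_sSup hK))
  rw [← hmin T hTn hT0 hTN, Subgroup.map_le_iff_le_comap]
  refine sSup_le fun K hK => ?_
  have h1 := IH _ hMcard M rfl (S.subgroupOf M) K hS.subgroupOf hK.2.1 hK.2.2.2
  rw [← Subgroup.subgroupOf_normalizer_eq hSM] at h1
  exact h1

/-- **Wielandt**: a minimal normal subgroup normalizes every subnormal subgroup. -/
theorem minimal_normal_le_normalizer {G : Type u} [Group G] [Finite G] {S N : Subgroup G}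
    (hS : S.IsSubnormal) [hN : N.Normal]
    (hmin : ∀ K : Subgroup G, K.Normal → K ≠ ⊥ → K ≤ N → K = N) :
    N ≤ Subgroup.normalizer (S : Set G) :=
  minimal_normal_le_normalizer_aux _ G rfl S N hS hN hmin

theorem isSubnormal_sup_aux (n : ℕ) : ∀ (G : Type u) [Group G] [Finite G], Nat.card G = n →
    ∀ A B : Subgroup G, A.IsSubnormal → B.IsSubnormal → (A ⊔ B).IsSubnormal := by
  induction n using Nat.strong_induction_on with
  | _ n IH =>
  intro G _ _ hn A B hA hB
  subst hn
  rcases subsingleton_or_nontrivial G with hs | hs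
  · exact Subgroup.IsSubnormal.of_subsingleton
  haveI : Finite (Subgroup G) := Finite.of_injective (fun K => (K : Set G)) SetLike.coe_injective
  obtain ⟨N, -, ⟨hNn, hN⟩, hNmin⟩ := (Set.toFinite {R : Subgroup G | R.Normal ∧ R ≠ ⊥}).exists_le_minimal
    (show (⊤ : Subgroup G) ∈ {R : Subgroup G | R.Normal ∧ R ≠ ⊥} from ⟨inferInstance, top_ne_bot⟩)
  haveI := hNn
  have hmin : ∀ K : Subgroup G, K.Normal → K ≠ ⊥ → K ≤ N → K = N :=
    fun R hR hR0 hle => le_antisymm hle (hNmin ⟨hR, hR0⟩ hle)
  set f := QuotientGroup.mk' N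
  have hf : Function.Surjective f := QuotientGroup.mk'_surjective N
  have hlt : Nat.card (G ⧸ N) < Nat.card G := by
    rw [Subgroup.card_eq_card_quotient_mul_card_subgroup N]
    exact lt_mul_of_one_lt_right Nat.card_pos (N.one_lt_card_iff_ne_bot.mpr hN)
  have hJ : (A ⊔ B ⊔ N).IsSubnormal := by
    have h1 := (IH _ hlt (G ⧸ N) rfl (A.map f) (B.map f) (hA.map hf) (hB.map hf)).comap f
    rwa [← Subgroup.map_sup, Subgroup.comap_map_eq, QuotientGroup.ker_mk'] at h1
  by_cases hJtop : A ⊔ B ⊔ N = ⊤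
  · apply Subgroup.Normal.isSubnormal
    rw [← Subgroup.normalizer_eq_top_iff, eq_top_iff, ← hJtop]
    refine sup_le Subgroup.le_normalizer fun x hx => ?_
    have hA' := minimal_normal_le_normalizer hA hmin hx
    have hB' := minimal_normal_le_normalizer hB hmin hx
    have key : ∀ S : Subgroup G, x ∈ Subgroup.normalizer (S : Set G) →
        S.map (MulAut.conj x).toMonoidHom = S := by
      intro S h
      ext y
      constructor
      · rintro ⟨z, hz, rfl⟩
        exact (Subgroup.mem_normalizer_iff.mp h z).mp hz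
      · intro hy
        exact ⟨x⁻¹ * y * x, (Subgroup.mem_normalizer_iff'.mp h (x⁻¹ * y)).mpr (by simpa [mul_assoc] using hy),
          by simp [mul_assoc]⟩
    have e : (A ⊔ B).map (MulAut.conj x).toMonoidHom = A ⊔ B := by
      rw [Subgroup.map_sup, key A hA', key B hB']
    rw [Subgroup.mem_normalizer_iff]
    intro y
    conv_rhs => rw [← e]
    exact ⟨fun hy => ⟨y, hy, by simp⟩, fun ⟨z, hz, he⟩ => by
      have : z = y := (MulAut.conj x).injective (by simpa using he)
      rwa [← this]⟩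
  · have hlt' : Nat.card (A ⊔ B ⊔ N : Subgroup G) < Nat.card G :=
      lt_of_le_of_ne (Nat.le_of_dvd Nat.card_pos (A ⊔ B ⊔ N).card_subgroup_dvd_card)
        fun e => hJtop (Subgroup.eq_top_of_card_eq _ e)
    have hAJ : A ≤ A ⊔ B ⊔ N := le_sup_left.trans le_sup_left
    have hBJ : B ≤ A ⊔ B ⊔ N := le_sup_right.trans le_sup_left
    have h1 := IH _ hlt' _ rfl _ _ (hA.subgroupOf (K := A ⊔ B ⊔ N)) (hB.subgroupOf (K := A ⊔ B ⊔ N))
    rw [← Subgroup.subgroupOf_sup hAJ hBJ] at h1
    exact Subgroup.IsSubnormal.trans (sup_le hAJ hBJ) h1 hJ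

/-- **Wielandt's join theorem.** -/
theorem isSubnormal_sup {G : Type u} [Group G] [Finite G] {A B : Subgroup G} (hA : A.IsSubnormal)
    (hB : B.IsSubnormal) : (A ⊔ B).IsSubnormal :=
  isSubnormal_sup_aux _ G rfl A B hA hB

end CfsgLib.Subnormal
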