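import Mathlib

/-!
The join of two subnormal subgroups of a finite group is subnormal (Wielandt).
-/

set_option autoImplicit false
set_option linter.style.haveILetI false

namespace CfsgLib.Subnormal

variable {G : Type*} [Group G]

theorem normalClosure_ne_top {H : Subgroup G} (hH : H.IsSubnormal) (h : H ≠ ⊤) :
    Subgroup.normalClosure (H : Set G) ≠ ⊤ := by
  rcases hH.lt_normal with h' | ⟨K, hK, hHK, hlt⟩
  · exact absurd h' h
  · haveI := hK
    exact fun e => hlt.ne (top_le_iff.mp (e ▸ Subgroup.normalClosure_le_normal hHK))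

/-- Subnormality inside a subnormal subgroup gives subnormality of a join. -/
theorem sup_isSubnormal_of_le {H K X : Subgroup G} (hX : X.IsSubnormal) (hH : H ≤ X) (hK : K ≤ X)
    (h : (H.subgroupOf X ⊔ K.subgroupOf X).IsSubnormal) : (H ⊔ K).IsSubnormal := by
  rw [← Subgroup.subgroupOf_sup hH hK] at h
  exact h.trans (sup_le hH hK) hX

theorem sup_of_normalized_aux (n : ℕ) : ∀ {G : Type _} [Group G] [Finite G], Nat.card G = n →
    ∀ {H K : Subgroup G}, H.IsSubnormal → K.IsSubnormal → K ≤ Subgroup.normalizer (H : Set G) →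
      (H ⊔ K).IsSubnormal := by
  induction n using Nat.strong_induction_on with
  | _ n ih =>
    intro G _ _ hn H K hH hK hKH
    by_cases hHt : H = ⊤
    · rw [hHt, top_sup_eq]; exact Subgroup.IsSubnormal.top
    set M := Subgroup.normalClosure (H : Set G) with hM
    have hHM : H ≤ M := Subgroup.le_normalClosure
    have hX : (M ⊔ K).IsSubnormal := by
      have h := (hK.map (QuotientGroup.mk'_surjective M)).comap (QuotientGroup.mk' M)
      rwa [Subgroup.comap_map_eq, QuotientGroup.ker_mk', sup_comm] at h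
    by_cases hXt : M ⊔ K = ⊤
    · have hHeq : H.subgroupOf M = ⊤ := by
        rcases (hH.subgroupOf (K := M)).lt_normal with h | ⟨K', hK', hle, hlt⟩
        · exact h
        exfalso
        haveI := hK'
        refine hlt.ne (eq_top_iff.mpr fun m _ => ?_)
        have hall : M ≤ K'.map M.subtype := by
          refine (Subgroup.closure_le _).mpr fun x hx => ?_
          obtain ⟨a, ha, hax⟩ := Group.mem_conjugatesOfSet_iff.mp hx
          obtain ⟨c, rfl⟩ := isConj_iff.mp hax
          have hc : c ∈ ((M ⊔ K : Subgroup G) : Set G) := by rw [hXt]; trivial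
          rw [Subgroup.normal_mul] at hc
          obtain ⟨m, hm, k, hk, rfl⟩ := hc
          have h1 : k * a * k⁻¹ ∈ H := (Subgroup.mem_normalizer_iff.mp (hKH hk) a).mp ha
          refine ⟨⟨m, hm⟩ * ⟨k * a * k⁻¹, hHM h1⟩ * ⟨m, hm⟩⁻¹, hK'.conj_mem _ (hle h1) _, ?_⟩
          show m * (k * a * k⁻¹) * m⁻¹ = m * k * a * (m * k)⁻¹
          group
        obtain ⟨v, hv, hvm⟩ := hall m.2
        exact (Subtype.ext hvm : v = m) ▸ hv
      rw [Subgroup.subgroupOf_eq_top] at hHeq
      rw [le_antisymm hHM hHeq, hXt]
      exact Subgroup.IsSubnormal.top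
    · have hlt : Nat.card ↥(M ⊔ K) < n := hn ▸ lt_of_le_of_ne (Subgroup.card_le_card_group _)
        fun e => hXt (Subgroup.eq_top_of_card_eq _ e)
      refine sup_isSubnormal_of_le hX (hHM.trans le_sup_left) le_sup_right ?_
      exact ih _ hlt rfl hH.subgroupOf hK.subgroupOf fun k hk =>
        Subgroup.mem_normalizer_iff.mpr fun x => Subgroup.mem_normalizer_iff.mp (hKH hk) (x : G)

theorem sup_aux (n : ℕ) : ∀ {G : Type _} [Group G] [Finite G], Nat.card G = n →
    ∀ {H K : Subgroup G}, H.IsSubnormal → K.IsSubnormal → (H ⊔ K).IsSubnormal := by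
  induction n using Nat.strong_induction_on with
  | _ n ih =>
    intro G _ _ hn H K hH hK
    by_cases hHt : H = ⊤
    · rw [hHt, top_sup_eq]; exact Subgroup.IsSubnormal.top
    classical
    set M := Subgroup.normalClosure (H : Set G) with hM
    have hMt : M ≠ ⊤ := normalClosure_ne_top hH hHt
    have hHM : H ≤ M := Subgroup.le_normalClosure
    have hlt : Nat.card M < n := hn ▸ lt_of_le_of_ne (Subgroup.card_le_card_group _)
      fun e => hMt (Subgroup.eq_top_of_card_eq _ e)
    set J := H ⊔ K with hJ
    haveI := Fintype.ofFinite J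
    set H₁ := (Finset.univ : Finset J).sup fun j => H.map (MulAut.conj (j : G)).toMonoidHom with hH₁
    have hconj : ∀ j : G, (H.map (MulAut.conj j).toMonoidHom).IsSubnormal ∧
        H.map (MulAut.conj j).toMonoidHom ≤ M := fun j =>
      ⟨hH.map (MulAut.conj j).surjective, by
        rintro _ ⟨x, hx, rfl⟩
        exact (Subgroup.normalClosure_normal (s := (H : Set G))).conj_mem x (hHM hx) j⟩
    have hsn : H₁.IsSubnormal ∧ H₁ ≤ M := by
      refine Finset.sup_induction (s := (Finset.univ : Finset J))
        (f := fun j => H.map (MulAut.conj (j : G)).toMonoidHom) (p := fun X => X.IsSubnormal ∧ X ≤ M)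
        ⟨Subgroup.IsSubnormal.bot, bot_le⟩ ?_ fun j _ => hconj (j : G)
      rintro A ⟨hA, hAM⟩ B ⟨hB, hBM⟩
      exact ⟨sup_isSubnormal_of_le (Subgroup.normalClosure_normal).isSubnormal hAM hBM
        (ih _ hlt rfl hA.subgroupOf hB.subgroupOf), sup_le hAM hBM⟩
    have hH₁J : H₁ ≤ J := Finset.sup_le fun j _ => by
      rintro _ ⟨x, hx, rfl⟩
      exact J.mul_mem (J.mul_mem j.2 (Subgroup.mem_sup_left hx)) (J.inv_mem j.2)
    have hHH₁ : H ≤ H₁ := by
      refine le_trans ?_ (Finset.le_sup (f := fun j : J => H.map (MulAut.conj (j : G)).toMonoidHom)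
        (Finset.mem_univ (1 : J)))
      intro x hx
      exact ⟨x, hx, by simp⟩
    have hnorm : K ≤ Subgroup.normalizer (H₁ : Set G) := fun k hk =>
      Subgroup.mem_normalizer_fintype fun x hx => by
        have hle : H₁ ≤ H₁.comap (MulAut.conj k).toMonoidHom := Finset.sup_le fun j _ => by
          rw [← Subgroup.map_le_iff_le_comap, Subgroup.map_map]
          refine le_trans (le_of_eq ?_) (Finset.le_sup (f := fun j : J => H.map (MulAut.conj (j : G)).toMonoidHom)
            (Finset.mem_univ (⟨k, Subgroup.mem_sup_right hk⟩ * j : J)))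
          refine congrArg (fun φ => Subgroup.map φ H) ?_
          ext y
          simp [mul_assoc]
        exact hle hx
    have heq : J = H₁ ⊔ K := le_antisymm (sup_le (hHH₁.trans le_sup_left) le_sup_right)
      (sup_le hH₁J le_sup_right)
    rw [heq]
    exact sup_of_normalized_aux _ rfl hsn.1 hK hnorm

/-- **Wielandt**: in a finite group the join of two subnormal subgroups is subnormal. -/
theorem isSubnormal_sup [Finite G] {H K : Subgroup G} (hH : H.IsSubnormal) (hK : K.IsSubnormal) :
    (H ⊔ K).IsSubnormal :=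
  sup_aux _ rfl hH hK

/-- A finite join of subnormal subgroups is subnormal. -/
theorem isSubnormal_iSup [Finite G] {ι : Type*} [Finite ι] (f : ι → Subgroup G)
    (h : ∀ i, (f i).IsSubnormal) : (⨆ i, f i).IsSubnormal := by
  haveI := Fintype.ofFinite ι
  rw [← Finset.sup_univ_eq_iSup]
  exact Finset.sup_induction (p := fun X : Subgroup G => X.IsSubnormal) Subgroup.IsSubnormal.bot
    (fun A hA B hB => isSubnormal_sup hA hB) fun i _ => h i

end CfsgLib.Subnormal
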