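import Mathlib
import Cfsg.Agent.Lib.Subnormal.Join

/-!
A generalised zipper lemma: if the join `Y` of the proper subgroups `H` which are generated by their
conjugates of `A` is proper, then `A` lies in exactly one maximal subgroup.
-/

set_option autoImplicit false

namespace CfsgLib.GenZipper

variable {G : Type*} [Group G]

/-- `X` is a subnormal subgroup of `K`. -/
def SN (X K : Subgroup G) : Prop := X ≤ K ∧ (X.subgroupOf K).IsSubnormal

/-- `H` contains `A` and is generated by its conjugates of `A`. -/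
def Cls (A H : Subgroup G) : Prop :=
  A ≤ H ∧ Subgroup.normalClosure ((A.subgroupOf H : Subgroup ↥H) : Set ↥H) = ⊤

/-- A conjugate subgroup. -/
def cj (g : G) (X : Subgroup G) : Subgroup G := X.map (MulAut.conj g).toMonoidHom

theorem cj_one (X : Subgroup G) : cj 1 X = X := by
  rw [cj, map_one]; exact Subgroup.map_id X

theorem cj_mul (g h : G) (X : Subgroup G) : cj (g * h) X = cj g (cj h X) := by
  rw [cj, cj, cj, Subgroup.map_map, map_mul]
  rfl

theorem cj_inv_cj (g : G) (X : Subgroup G) : cj g⁻¹ (cj g X) = X := by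
  rw [← cj_mul, inv_mul_cancel, cj_one]

theorem cj_cj_inv (g : G) (X : Subgroup G) : cj g (cj g⁻¹ X) = X := by
  rw [← cj_mul, mul_inv_cancel, cj_one]

theorem cj_injective (g : G) : Function.Injective (cj g : Subgroup G → Subgroup G) :=
  Subgroup.map_injective (MulAut.conj g).injective

theorem cj_mono (g : G) {X Y : Subgroup G} (h : X ≤ Y) : cj g X ≤ cj g Y := Subgroup.map_mono h

theorem cj_le_iff (g : G) {X Y : Subgroup G} : cj g X ≤ cj g Y ↔ X ≤ Y :=
  ⟨fun h => by simpa only [cj_inv_cj] using cj_mono g⁻¹ h, cj_mono g⟩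

theorem mem_cj {g x : G} {X : Subgroup G} (h : x ∈ X) : g * x * g⁻¹ ∈ cj g X := ⟨x, h, rfl⟩

theorem cj_of_mem {g : G} {X : Subgroup G} (h : g ∈ X) : cj g X = X := by
  have hle : ∀ u ∈ X, cj u X ≤ X := fun u hu => by
    rintro _ ⟨x, hx, rfl⟩
    exact X.mul_mem (X.mul_mem hu hx) (X.inv_mem hu)
  refine le_antisymm (hle g h) ?_
  have h1 := cj_mono g (hle g⁻¹ (X.inv_mem h))
  rwa [cj_cj_inv] at h1

theorem cj_isCoatom (g : G) {K : Subgroup G} (h : IsCoatom K) : IsCoatom (cj g K) :=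
  (OrderIso.isCoatom_iff (MulEquiv.mapSubgroup (MulAut.conj g)) K).2 h

theorem sn_mono {X K K' : Subgroup G} (h : SN X K) (hX : X ≤ K') (hK : K' ≤ K) : SN X K' := by
  refine ⟨hX, ?_⟩
  have h1 := h.2.comap (Subgroup.inclusion hK)
  rwa [show (X.subgroupOf K).comap (Subgroup.inclusion hK) = X.subgroupOf K' from
    Subgroup.ext fun x => Iff.rfl] at h1

theorem sn_trans {X L K : Subgroup G} (h : SN X L) (h' : SN L K) : SN X K := by
  refine ⟨h.1.trans h'.1, Subgroup.IsSubnormal.trans (K := L.subgroupOf K) (fun x hx => h.1 hx) ?_ h'.2⟩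
  have h1 := h.2.comap (Subgroup.subgroupOfEquivOfLe h'.1).toMonoidHom
  rwa [show (X.subgroupOf L).comap (Subgroup.subgroupOfEquivOfLe h'.1).toMonoidHom =
    (X.subgroupOf K).subgroupOf (L.subgroupOf K) from Subgroup.ext fun x => Iff.rfl] at h1

theorem sn_cj (g : G) {X K : Subgroup G} (h : SN X K) : SN (cj g X) (cj g K) := by
  refine ⟨cj_mono g h.1, ?_⟩
  have h1 := h.2.comap (((MulAut.conj g).subgroupMap K).symm).toMonoidHom
  rwa [show (X.subgroupOf K).comap (((MulAut.conj g).subgroupMap K).symm).toMonoidHom =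
    (cj g X).subgroupOf (cj g K) from ?_] at h1
  ext y
  obtain ⟨x, rfl⟩ := ((MulAut.conj g).subgroupMap K).surjective y
  simp only [Subgroup.mem_comap, MulEquiv.coe_toMonoidHom, MulEquiv.symm_apply_apply, Subgroup.mem_subgroupOf]
  exact (Subgroup.mem_map_iff_mem (MulAut.conj g).injective).symm

theorem sn_sSup [Finite G] {S : Set (Subgroup G)} {K : Subgroup G} (h : ∀ C ∈ S, SN C K) :
    SN (sSup S) K := by
  classical
  have key : ∀ F : Finset (Subgroup G), (∀ C ∈ F, SN C K) → SN (F.sup id) K := by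
    intro F
    induction F using Finset.induction_on with
    | empty =>
      intro _
      refine ⟨bot_le, ?_⟩
      rw [Finset.sup_empty, Subgroup.bot_subgroupOf]
      exact Subgroup.IsSubnormal.bot
    | @insert C F hC ih =>
      intro hF
      rw [Finset.sup_insert]
      obtain ⟨h1, h2⟩ := hF C (Finset.mem_insert_self C F)
      obtain ⟨h3, h4⟩ := ih fun D hD => hF D (Finset.mem_insert_of_mem hD)
      refine ⟨sup_le h1 h3, ?_⟩
      show ((C ⊔ F.sup id).subgroupOf K).IsSubnormal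
      rw [Subgroup.subgroupOf_sup h1 h3]
      exact Subnormal.isSubnormal_sup h2 h4
  have hS : S.Finite := S.toFinite
  have e : sSup S = hS.toFinset.sup id := by
    rw [Finset.sup_id_eq_sSup, Set.Finite.coe_toFinset]
  rw [e]
  exact key _ fun C hC => h C (hS.mem_toFinset.1 hC)

/-- A subnormal subgroup generating by conjugation is the whole group. -/
theorem eq_of_sn_cls {X K : Subgroup G} (h : SN X K) (h' : Cls X K) : X = K := by
  by_contra hne
  refine Subnormal.normalClosure_ne_top h.2 (fun e => hne (le_antisymm h.1 ?_)) h'.2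
  rwa [Subgroup.subgroupOf_eq_top] at e

theorem cls_self (A : Subgroup G) : Cls A A :=
  ⟨le_rfl, by rw [Subgroup.subgroupOf_self, Subgroup.coe_top]; exact top_le_iff.1 fun x _ => Subgroup.subset_normalClosure trivial⟩

/-- The normal closure in a subgroup contains every smaller one. -/
theorem le_closure {A H Y : Subgroup G} (h : Cls A H) (hHY : H ≤ Y) :
    H ≤ (Subgroup.normalClosure ((A.subgroupOf Y : Subgroup ↥Y) : Set ↥Y)).map Y.subtype := by
  intro x hx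
  have h1 : Subgroup.normalClosure ((A.subgroupOf H : Subgroup ↥H) : Set ↥H) ≤
      (Subgroup.normalClosure ((A.subgroupOf Y : Subgroup ↥Y) : Set ↥Y)).comap (Subgroup.inclusion hHY) :=
    Subgroup.normalClosure_le_normal fun y hy => Subgroup.subset_normalClosure hy
  rw [h.2] at h1
  exact ⟨⟨x, hHY hx⟩, h1 (Subgroup.mem_top ⟨x, hx⟩), rfl⟩

theorem cls_of_forall {A Y : Subgroup G} {S : Set (Subgroup G)} (hY : Y = sSup S) (hA : A ≤ Y)
    (h : ∀ H ∈ S, Cls A H) : Cls A Y := by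
  refine ⟨hA, top_le_iff.1 fun y _ => ?_⟩
  have h1 : Y ≤ (Subgroup.normalClosure ((A.subgroupOf Y : Subgroup ↥Y) : Set ↥Y)).map Y.subtype := by
    rw [hY] at *
    exact sSup_le fun H hH => le_closure (h H hH) (le_sSup hH)
  obtain ⟨z, hz, hzy⟩ := h1 y.2
  rwa [← Subtype.ext hzy]

theorem cls_trans {A B H : Subgroup G} (h : Cls A B) (h' : Cls B H) : Cls A H := by
  refine ⟨h.1.trans h'.1, top_le_iff.1 ?_⟩
  rw [← h'.2]
  refine Subgroup.normalClosure_le_normal fun b hb => ?_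
  obtain ⟨z, hz, hzb⟩ := le_closure h h'.1 hb
  rw [SetLike.mem_coe, ← Subtype.ext hzb]
  exact hz

/-- The smallest subnormal subgroup of `M` over `A` is generated by its conjugates of `A`. -/
theorem exists_sn_cls [Finite G] {A M : Subgroup G} (h : A ≤ M) : ∃ L, A ≤ L ∧ SN L M ∧ Cls A L := by
  have hMM : SN M M := ⟨le_rfl, by rw [Subgroup.subgroupOf_self]; exact Subgroup.IsSubnormal.top⟩
  obtain ⟨L, -, hL⟩ := Finite.exists_le_minimal (p := fun L => A ≤ L ∧ SN L M) (a := M) ⟨h, hMM⟩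
  refine ⟨L, hL.prop.1, hL.prop.2, hL.prop.1, ?_⟩
  set N := Subgroup.normalClosure ((A.subgroupOf L : Subgroup ↥L) : Set ↥L) with hN
  have hsn : SN (N.map L.subtype) L := ⟨Subgroup.map_subtype_le N, by
    rw [Subgroup.subgroupOf, Subgroup.comap_map_eq_self_of_injective L.subtype_injective]
    exact Subgroup.normalClosure_normal.isSubnormal⟩
  have hA : A ≤ N.map L.subtype := fun x hx =>
    ⟨⟨x, hL.prop.1 hx⟩, Subgroup.subset_normalClosure hx, rfl⟩
  have h1 : L ≤ N.map L.subtype := hL.2 ⟨hA, sn_trans hsn hL.prop.2⟩ (Subgroup.map_subtype_le N)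
  refine top_le_iff.1 fun x _ => ?_
  obtain ⟨z, hz, hzx⟩ := h1 x.2
  rwa [← Subtype.ext hzx]

variable [Finite G]

theorem cj_eq_of_le {g : G} {X : Subgroup G} (h : cj g X ≤ X) : cj g X = X :=
  Subgroup.eq_of_le_of_card_ge h (Subgroup.card_map_of_injective (MulAut.conj g).injective).ge

/-- A nonnormal join of subnormal subgroups of `X` is normalised outside `D`. -/
theorem growth {X D : Subgroup G} {S : Set (Subgroup G)} (hSN : ∀ C ∈ S, SN C X)
    (hcl : ∀ C ∈ S, ∀ g ∈ X, cj g C ≤ D → cj g C ∈ S) (hDX : ¬ X ≤ D) :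
    ∃ y ∈ X, y ∉ D ∧ cj y (sSup S) = sSup S := by
  set U := sSup S with hU
  have hcjU : ∀ g : G, cj g U = ⨆ C ∈ S, cj g C := fun g => by
    rw [hU, sSup_eq_iSup, cj, Subgroup.map_iSup]
    simp only [Subgroup.map_iSup]
    rfl
  by_cases hall : ∀ g ∈ X, cj g U = U
  · obtain ⟨y, hy, hyD⟩ := Set.not_subset.1 hDX
    exact ⟨y, hy, hyD, hall y hy⟩
  have hgen : ∀ K : Subgroup G, U ≤ K → K ≤ X →
      U ≤ sSup {Z | ∃ C ∈ S, ∃ g ∈ K, Z = cj g C} ∧ (sSup {Z | ∃ C ∈ S, ∃ g ∈ K, Z = cj g C}) ≤ K := by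
    intro K hUK _
    refine ⟨sSup_le fun C hC => le_sSup ⟨C, hC, 1, K.one_mem, (cj_one C).symm⟩, sSup_le ?_⟩
    rintro _ ⟨C, hC, g, hg, rfl⟩
    have := cj_mono g ((le_sSup hC).trans hUK)
    rwa [cj_of_mem hg] at this
  let P : Subgroup G → Prop := fun K => U < K ∧ K ≤ X ∧
    ∃ T : Set (Subgroup G), K = sSup T ∧ ∀ Z ∈ T, ∃ C ∈ S, ∃ g ∈ X, Z = cj g C
  have hUX : U ≤ X := sSup_le fun C hC => (hSN C hC).1
  obtain ⟨h1, h2⟩ := hgen X hUX le_rfl
  have hne : U ≠ sSup {Z | ∃ C ∈ S, ∃ g ∈ X, Z = cj g C} := fun e => hall fun g hg => cj_eq_of_le (by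
    rw [hcjU]
    exact iSup₂_le fun C hC => (le_sSup (s := {Z | ∃ C ∈ S, ∃ g ∈ X, Z = cj g C}) ⟨C, hC, g, hg, rfl⟩).trans e.ge)
  have hPX : P (sSup {Z | ∃ C ∈ S, ∃ g ∈ X, Z = cj g C}) :=
    ⟨lt_of_le_of_ne h1 hne, h2, {Z | ∃ C ∈ S, ∃ g ∈ X, Z = cj g C}, rfl, fun Z hZ => hZ⟩
  obtain ⟨K, -, hK⟩ := Finite.exists_le_minimal (p := P) hPX
  obtain ⟨hUK, hKX, T, hT, hTmem⟩ := hK.prop
  obtain ⟨h3, h4⟩ := hgen K hUK.le hKX
  set K' := sSup {Z | ∃ C ∈ S, ∃ g ∈ K, Z = cj g C} with hK'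
  have hK'U : K' = U := by
    by_contra hne'
    have hKK' : K ≤ K' := hK.2 ⟨lt_of_le_of_ne h3 (Ne.symm hne'), h4.trans hKX, _, rfl,
      fun Z ⟨C, hC, g, hg, e⟩ => ⟨C, hC, g, hKX hg, e⟩⟩ h4
    refine hUK.ne (eq_of_sn_cls (sn_mono (sn_sSup hSN) hUK.le hKX) ⟨hUK.le, top_le_iff.1 fun x _ => ?_⟩)
    have hle : K' ≤ (Subgroup.normalClosure ((U.subgroupOf K : Subgroup ↥K) : Set ↥K)).map K.subtype := by
      refine sSup_le ?_
      rintro _ ⟨C, hC, g, hg, rfl⟩ _ ⟨c, hc, rfl⟩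
      have hcK : c ∈ K := hUK.le ((le_sSup hC : C ≤ U) hc)
      exact ⟨⟨g, hg⟩ * ⟨c, hcK⟩ * ⟨g, hg⟩⁻¹, Subgroup.normalClosure_normal.conj_mem _
        (Subgroup.subset_normalClosure (show (⟨c, hcK⟩ : ↥K) ∈ ((U.subgroupOf K : Subgroup ↥K) : Set ↥K) from
          (le_sSup hC : C ≤ U) hc)) _, rfl⟩
    obtain ⟨z, hz, hzx⟩ := hle (hKK' x.2)
    rwa [← Subtype.ext hzx]
  obtain ⟨y, hyK, hyD⟩ : ∃ y ∈ K, y ∉ D := by
    by_contra hc
    push Not at hc
    refine hUK.not_ge (hT.le.trans (sSup_le fun Z hZ => ?_))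
    obtain ⟨C, hC, g, hg, rfl⟩ := hTmem Z hZ
    exact le_sSup (hcl C hC g hg (((le_sSup hZ).trans hT.ge).trans hc))
  refine ⟨y, hKX hyK, hyD, cj_eq_of_le ?_⟩
  rw [hcjU]
  exact iSup₂_le fun C hC => (le_sSup (s := {Z | ∃ C ∈ S, ∃ g ∈ K, Z = cj g C}) ⟨C, hC, y, hyK, rfl⟩).trans hK'U.le

theorem cj_sSup_conjugates {A X : Subgroup G} {g : G} (hg : cj g X = X) :
    cj g (sSup {C | (∃ h, C = cj h A) ∧ C ≤ X}) = sSup {C | (∃ h, C = cj h A) ∧ C ≤ X} := by
  refine cj_eq_of_le (Subgroup.map_le_iff_le_comap.2 (sSup_le ?_))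
  rintro C ⟨⟨h, rfl⟩, hC⟩
  refine Subgroup.map_le_iff_le_comap.1 (le_sSup ⟨⟨g * h, (cj_mul g h A).symm⟩, ?_⟩)
  exact (cj_mono g hC).trans hg.le

theorem main_aux (n : ℕ) : ∀ A : Subgroup G, Nat.card G ≤ Nat.card A + n →
    Subgroup.normalClosure (A : Set G) = ⊤ → A ≠ ⊤ →
    sSup {H : Subgroup G | A ≤ H ∧ H ≠ ⊤ ∧ Cls A H} ≠ ⊤ → ∃! M : Subgroup G, IsCoatom M ∧ A ≤ M := by
  induction n with
  | zero =>
    intro A h0 _ hne _
    exact absurd (Subgroup.eq_top_of_card_eq A (le_antisymm (Subgroup.card_le_card_group A) (by omega))) hne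
  | succ n ih =>
    intro A hn hA hAne hY
    set S := {H : Subgroup G | A ≤ H ∧ H ≠ ⊤ ∧ Cls A H} with hS
    set Y := sSup S with hYdef
    have hAS : A ∈ S := ⟨le_rfl, hAne, cls_self A⟩
    have hAY : A ≤ Y := le_sSup hAS
    have hYS : Cls A Y := cls_of_forall hYdef hAY fun H hH => hH.2.2
    -- larger seeds lie in one maximal subgroup
    have hseed : ∀ B : Subgroup G, A < B → B ≠ ⊤ → sSup {H : Subgroup G | B ≤ H ∧ H ≠ ⊤ ∧ Cls B H} ≠ ⊤ →
        ∀ K₁ K₂ : Subgroup G, IsCoatom K₁ → IsCoatom K₂ → B ≤ K₁ → B ≤ K₂ → K₁ = K₂ := by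
      intro B hB hBne hYB K₁ K₂ h1 h2 h1' h2'
      have hlt : Nat.card A < Nat.card B :=
        lt_of_le_of_ne (Subgroup.card_le_of_le hB.le) fun e => hB.ne (Subgroup.eq_of_le_of_card_ge hB.le e.ge)
      exact (ih B (by omega) (top_le_iff.1 (hA.ge.trans (Subgroup.normalClosure_mono hB.le))) hBne hYB).unique
        ⟨h1, h1'⟩ ⟨h2, h2'⟩
    obtain ⟨K₀, hK₀, hAK₀⟩ := (eq_top_or_exists_le_coatom A).resolve_left hAne
    refine ⟨K₀, ⟨hK₀, hAK₀⟩, fun K₁ ⟨hK₁, hAK₁⟩ => ?_⟩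
    by_contra hK10
    have hself : ∀ K : Subgroup G, IsCoatom K → A ≤ K → ∀ m : G, cj m K = K → m ∈ K := by
      intro K hK hAK m hm
      by_contra hmK
      have hnorm : Subgroup.normalizer (K : Set G) = ⊤ := by
        refine hK.2 _ (lt_of_le_of_ne Subgroup.le_normalizer fun e => hmK (e.ge ?_))
        refine Subgroup.mem_normalizer_iff.2 fun x => ⟨fun hx => hm.le (mem_cj hx), fun hx => ?_⟩
        rw [← hm] at hx
        obtain ⟨z, hz, hzx⟩ := hx
        have hzx' : m * z * m⁻¹ = m * x * m⁻¹ := hzx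
        rwa [← mul_left_cancel (mul_right_cancel hzx')]
      haveI := Subgroup.normalizer_eq_top_iff.1 hnorm
      exact hK.1 (top_le_iff.1 (hA ▸ Subgroup.normalClosure_le_normal hAK))
    have hpairs : ∀ K L : Subgroup G, IsCoatom K → IsCoatom L → K ≠ L → ¬ K ≤ K ⊓ L := fun K L hK hL hKL h =>
      hKL ((hK.le_iff.1 (h.trans inf_le_right)).resolve_left hL.1).symm
    -- two maximal subgroups with largest intersection
    have hfinish : ∀ K L : Subgroup G, IsCoatom K → IsCoatom L → K ≠ L → A ≤ K → A ≤ L →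
        ∀ y ∈ K, y ∉ K ⊓ L → ∀ m ∈ L, m ∉ K ⊓ L →
        cj y (sSup {C | (∃ h, C = cj h A) ∧ C ≤ K ⊓ L}) = sSup {C | (∃ h, C = cj h A) ∧ C ≤ K ⊓ L} →
        cj m (sSup {C | (∃ h, C = cj h A) ∧ C ≤ K ⊓ L}) = sSup {C | (∃ h, C = cj h A) ∧ C ≤ K ⊓ L} →
        ∃ M : Subgroup G, IsCoatom M ∧ A ≤ M ∧ M ≠ K ∧ Nat.card (K ⊓ L : Subgroup G) < Nat.card (M ⊓ K : Subgroup G) := by
      intro K L hK hL hKL hAK hAL y hy hyD m hm hmD hyT hmT
      set D := K ⊓ L with hD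
      set T := sSup {C | (∃ h, C = cj h A) ∧ C ≤ D} with hT
      have hAT : A ≤ T := le_sSup ⟨⟨1, (cj_one A).symm⟩, le_inf hAK hAL⟩
      have hTD : T ≤ D := sSup_le fun C hC => hC.2
      have hne : Subgroup.normalizer (T : Set G) ≠ ⊤ := fun e => by
        haveI := Subgroup.normalizer_eq_top_iff.1 e
        exact hK.1 (top_le_iff.1 ((hA ▸ Subgroup.normalClosure_le_normal hAT : ⊤ ≤ T).trans (hTD.trans inf_le_left)))
      have hmemN : ∀ g : G, cj g T = T → g ∈ Subgroup.normalizer (T : Set G) := fun g hg =>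
        Subgroup.mem_normalizer_iff.2 fun x => ⟨fun hx => hg.le (mem_cj hx), fun hx => by
          rw [← hg] at hx
          obtain ⟨z, hz, hzx⟩ := hx
          have hzx' : g * z * g⁻¹ = g * x * g⁻¹ := hzx
          rwa [← mul_left_cancel (mul_right_cancel hzx')]⟩
      obtain ⟨M, hM, hNM⟩ := (eq_top_or_exists_le_coatom _).resolve_left hne
      refine ⟨M, hM, (hAT.trans Subgroup.le_normalizer).trans hNM, fun e => hmD ⟨e ▸ hNM (hmemN m hmT), hm⟩, ?_⟩
      have hle : D ≤ M ⊓ K := le_inf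
        (fun d hd => hNM (hmemN d (cj_sSup_conjugates (cj_of_mem hd)))) inf_le_left
      refine lt_of_le_of_ne (Subgroup.card_le_of_le hle) fun e => hyD ?_
      exact (Subgroup.eq_of_le_of_card_ge hle e.ge).ge ⟨hNM (hmemN y hyT), hy⟩
    by_cases hAYeq : Y = A
    · -- `A` is subnormal in every maximal subgroup over it
      have hall : ∀ g : G, ∀ K : Subgroup G, IsCoatom K → cj g A ≤ K → SN (cj g A) K := by
        intro g K hK hgA
        have h1 : A ≤ cj g⁻¹ K := by simpa only [cj_inv_cj] using cj_mono g⁻¹ hgA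
        obtain ⟨L, hAL, hLK, hcls⟩ := exists_sn_cls h1
        have hLne : L ≠ ⊤ := fun e => (cj_isCoatom g⁻¹ hK).1 (top_le_iff.1 (e ▸ hLK.1))
        have hLA : L = A := le_antisymm (hAYeq ▸ le_sSup ⟨hAL, hLne, hcls⟩) hAL
        rw [hLA] at hLK
        simpa only [cj_cj_inv] using sn_cj g hLK
      let P : Subgroup G × Subgroup G → Prop := fun KL =>
        IsCoatom KL.1 ∧ IsCoatom KL.2 ∧ KL.1 ≠ KL.2 ∧ A ≤ KL.1 ∧ A ≤ KL.2
      obtain ⟨⟨K, L⟩, ⟨hK, hL, hKL, hAK, hAL⟩, hmax⟩ := Set.Finite.exists_maximalFor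
        (fun KL : Subgroup G × Subgroup G => Nat.card (KL.1 ⊓ KL.2 : Subgroup G)) {KL | P KL} (Set.toFinite _)
        ⟨(K₁, K₀), hK₁, hK₀, hK10, hAK₁, hAK₀⟩
      have hg : ∀ X : Subgroup G, IsCoatom X → K ⊓ L ≤ X → ¬ X ≤ K ⊓ L → ∃ y ∈ X, y ∉ K ⊓ L ∧
          cj y (sSup {C | (∃ h, C = cj h A) ∧ C ≤ K ⊓ L}) = sSup {C | (∃ h, C = cj h A) ∧ C ≤ K ⊓ L} := by
        intro X hX hDX hnot
        refine growth ?_ ?_ hnot
        · rintro C ⟨⟨h, rfl⟩, hC⟩
          exact hall h X hX (hC.trans hDX)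
        · rintro C ⟨⟨h, rfl⟩, hC⟩ g - hgC
          exact ⟨⟨g * h, (cj_mul g h A).symm⟩, hgC⟩
      obtain ⟨y, hy, hyD, hyT⟩ := hg K hK inf_le_left (hpairs K L hK hL hKL)
      obtain ⟨m, hm, hmD, hmT⟩ := hg L hL inf_le_right (by rw [inf_comm]; exact hpairs L K hL hK hKL.symm)
      obtain ⟨M, hM, hAM, hMK, hlt⟩ := hfinish K L hK hL hKL hAK hAL y hy hyD m hm hmD hyT hmT
      have := hmax (j := (M, K)) ⟨hM, hK, hMK, hAM, hAK⟩ hlt.le
      exact hlt.not_ge this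
    · -- one exceptional maximal subgroup `M₀`
      have hAYlt : A < Y := lt_of_le_of_ne hAY (Ne.symm hAYeq)
      obtain ⟨M₀, hM₀, hYM₀⟩ := (eq_top_or_exists_le_coatom Y).resolve_left hY
      have hAM₀ : A ≤ M₀ := hAY.trans hYM₀
      have huniqY : ∀ K : Subgroup G, IsCoatom K → Y ≤ K → K = M₀ := fun K hK hYK =>
        hseed Y hAYlt hY (fun e => hY (top_le_iff.1 (e ▸ sSup_le fun H ⟨_, hne', hH⟩ =>
          le_sSup ⟨hAY.trans hH.1, hne', cls_trans hYS hH⟩))) K M₀ hK hM₀ hYK hYM₀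
      have hnot : ¬ SN A M₀ := fun h => hAYlt.ne (eq_of_sn_cls (sn_mono h hAY hYM₀) hYS)
      have hexc : ∀ g : G, ∀ K : Subgroup G, IsCoatom K → cj g A ≤ K → K ≠ cj g M₀ → SN (cj g A) K := by
        intro g K hK hgA hne
        have hne' : cj g⁻¹ K ≠ M₀ := fun e => hne (by rw [← e, cj_cj_inv])
        have h1 : A ≤ cj g⁻¹ K := by simpa only [cj_inv_cj] using cj_mono g⁻¹ hgA
        obtain ⟨L, hAL, hLK, hcls⟩ := exists_sn_cls h1
        have hLne : L ≠ ⊤ := fun e => (cj_isCoatom g⁻¹ hK).1 (top_le_iff.1 (e ▸ hLK.1))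
        have hLS : L ∈ S := ⟨hAL, hLne, hcls⟩
        rcases eq_or_lt_of_le hAL with hLA | hlt
        · rw [← hLA] at hLK
          simpa only [cj_cj_inv] using sn_cj g hLK
        · refine absurd (hseed L hlt hLne ?_ _ M₀ (cj_isCoatom g⁻¹ hK) hM₀ hLK.1
            ((le_sSup hLS).trans hYM₀)) hne'
          exact fun e => hY (top_le_iff.1 (e ▸ sSup_le fun H ⟨_, hne'', hH⟩ =>
            le_sSup ⟨hAL.trans hH.1, hne'', cls_trans hcls hH⟩))
      -- two conjugates inside two maximal subgroups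
      have hF2 : ∀ M : Subgroup G, IsCoatom M → M ≠ M₀ → A ≤ M → ∀ g : G, cj g A ≤ M₀ → cj g A ≤ M →
          cj g A ≠ A → cj g M₀ ≠ M₀ ∧ A ≤ cj g M₀ := by
        intro M hM hMne hAM g hgM₀ hgM hgne
        by_contra hcon
        have hJ : A < A ⊔ cj g A := lt_of_le_of_ne le_sup_left fun e => hgne
          (Subgroup.eq_of_le_of_card_ge (le_sup_right.trans e.ge)
            (Subgroup.card_map_of_injective (MulAut.conj g).injective).ge)
        have hJM₀ : A ⊔ cj g A ≤ M₀ := sup_le hAM₀ hgM₀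
        refine hMne (hseed _ hJ (fun e => hM₀.1 (top_le_iff.1 (e ▸ hJM₀))) ?_ M M₀ hM hM₀ (sup_le hAM hgM) hJM₀)
        refine fun e => hM₀.1 (top_le_iff.1 (e ▸ sSup_le ?_))
        rintro H ⟨-, hHne, hH⟩
        by_contra hHM₀
        obtain ⟨K, hK, hHK⟩ := (eq_top_or_exists_le_coatom H).resolve_left hHne
        by_cases hKM : K = M₀
        · exact hHM₀ (hKM ▸ hHK)
        have hAK : A ≤ K := (le_sup_left.trans hH.1).trans hHK
        have h1 : SN (cj 1 A) K := hexc 1 K hK (by rwa [cj_one]) (by rwa [cj_one])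
        rw [cj_one] at h1
        have h2 : SN (cj g A) K := hexc g K hK ((le_sup_right.trans hH.1).trans hHK) fun e' => hcon
          ⟨fun e'' => hKM (e'.trans e''), e' ▸ hAK⟩
        have h3 : SN (A ⊔ cj g A) K := by
          rw [← sSup_pair]
          exact sn_sSup (by rintro C (rfl | rfl) <;> assumption)
        exact hHM₀ ((eq_of_sn_cls (sn_mono h3 hH.1 hHK) hH) ▸ hJM₀)
      -- the exceptional side
      have hside : ∀ M : Subgroup G, IsCoatom M → M ≠ M₀ → A ≤ M →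
          (∃ g : G, cj g A ≠ A ∧ cj g A ≤ M₀ ⊓ M) →
          ∃ y ∈ M₀, y ∉ M₀ ⊓ M ∧ cj y (sSup {C | (∃ h, C = cj h A) ∧ C ≤ M₀ ⊓ M}) =
            sSup {C | (∃ h, C = cj h A) ∧ C ≤ M₀ ⊓ M} := by
        intro M hM hMne hAM hex
        set S' : Set (Subgroup G) := {C | ((∃ h, C = cj h A) ∧ C ≤ M₀ ⊓ M) ∧ C ≠ A} with hS'
        have hmem : ∀ h : G, cj h A ∈ S' → cj h M₀ ≠ M₀ ∧ A ≤ cj h M₀ ∧ SN (cj h A) M₀ := fun h hh => by
          obtain ⟨h1, h2⟩ := hF2 M hM hMne hAM h (hh.1.2.trans inf_le_left) (hh.1.2.trans inf_le_right) hh.2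
          exact ⟨h1, h2, hexc h M₀ hM₀ (hh.1.2.trans inf_le_left) h1.symm⟩
        have hneA : ∀ g ∈ M₀, ∀ h : G, cj h A ∈ S' → cj g (cj h A) ≠ A := fun g hg h hh e => hnot (by
          have := sn_cj g (hmem h hh).2.2
          rwa [e, cj_of_mem hg] at this)
        obtain ⟨y, hy, hyD, hyU⟩ := growth (X := M₀) (D := M₀ ⊓ M) (S := S')
          (by rintro C hC; obtain ⟨h, rfl⟩ := hC.1.1; exact (hmem h hC).2.2)
          (by
            rintro C hC g hg hgC
            obtain ⟨h, rfl⟩ := hC.1.1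
            exact ⟨⟨⟨g * h, (cj_mul g h A).symm⟩, hgC⟩, hneA g hg h hC⟩)
          (hpairs M₀ M hM₀ hM hMne.symm)
        refine ⟨y, hy, hyD, ?_⟩
        have hTeq : sSup {C | (∃ h, C = cj h A) ∧ C ≤ M₀ ⊓ M} = A ⊔ sSup S' := by
          refine le_antisymm (sSup_le fun C hC => ?_) (sup_le ?_ (sSup_le fun C hC => le_sSup hC.1))
          · rcases eq_or_ne C A with rfl | hCA
            · exact le_sup_left
            · exact le_sup_of_le_right (le_sSup ⟨hC, hCA⟩)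
          · exact le_sSup ⟨⟨1, (cj_one A).symm⟩, le_inf hAM₀ hAM⟩
        by_cases hyA : cj y A = A
        · rw [hTeq]
          show (A ⊔ sSup S').map _ = _
          rw [Subgroup.map_sup]
          show cj y A ⊔ cj y (sSup S') = _
          rw [hyA, hyU]
        exfalso
        obtain ⟨g, hgA, hgD⟩ := hex
        have hgS : cj g A ∈ S' := ⟨⟨⟨g, rfl⟩, hgD⟩, hgA⟩
        have hUD : sSup S' ≤ M₀ ⊓ M := sSup_le fun C hC => hC.1.2
        have h1 : cj (y * g) A ≤ M₀ ⊓ M := by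
          rw [cj_mul]
          exact ((cj_mono y (le_sSup hgS)).trans hyU.le).trans hUD
        obtain ⟨h2, h3⟩ := hF2 M hM hMne hAM (y * g) (h1.trans inf_le_left) (h1.trans inf_le_right)
          (by rw [cj_mul]; exact hneA y hy g hgS)
        have h4 : cj y A ≤ cj (y * g) M₀ := by
          rw [cj_mul]; exact cj_mono y (hmem g hgS).2.1
        obtain ⟨h5, -⟩ := hF2 (cj (y * g) M₀) (cj_isCoatom _ hM₀) h2 h3 y
          ((cj_mono y hAM₀).trans (cj_of_mem hy).le) h4 hyA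
        exact h5 (cj_of_mem hy)
      let P : Subgroup G → Prop := fun M => IsCoatom M ∧ M ≠ M₀ ∧ A ≤ M
      obtain ⟨M₁, hM₁⟩ : ∃ M, P M := by
        by_cases h : K₁ = M₀
        · exact ⟨K₀, hK₀, fun e => hK10 (h.trans e.symm), hAK₀⟩
        · exact ⟨K₁, hK₁, h, hAK₁⟩
      obtain ⟨M, ⟨hM, hMne, hAM⟩, hmax⟩ := Set.Finite.exists_maximalFor
        (fun M : Subgroup G => Nat.card (M ⊓ M₀ : Subgroup G)) {M | P M} (Set.toFinite _) ⟨M₁, hM₁⟩
      obtain ⟨m, hm, hmD, hmT⟩ : ∃ m ∈ M, m ∉ M₀ ⊓ M ∧ cj m (sSup {C | (∃ h, C = cj h A) ∧ C ≤ M₀ ⊓ M}) =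
          sSup {C | (∃ h, C = cj h A) ∧ C ≤ M₀ ⊓ M} := by
        by_cases hall : ∀ h : G, cj h A ≤ M₀ ⊓ M → SN (cj h A) M
        · refine growth ?_ ?_ (by rw [inf_comm]; exact hpairs M M₀ hM hM₀ hMne)
          · rintro C ⟨⟨h, rfl⟩, hC⟩
            exact hall h hC
          · rintro C ⟨⟨h, rfl⟩, hC⟩ g - hgC
            exact ⟨⟨g * h, (cj_mul g h A).symm⟩, hgC⟩
        push Not at hall
        obtain ⟨g, hgD, hgSN⟩ := hall
        have hMg : M = cj g M₀ := by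
          by_contra hne
          exact hgSN (hexc g M hM (hgD.trans inf_le_right) hne)
        have hgA : cj g⁻¹ A ≠ A := fun e => hgSN (by
          have h1 : cj g A = A := by conv_lhs => rw [← e, cj_cj_inv]
          rw [h1]
          have h2 := hexc 1 M hM (by rwa [cj_one]) (by rwa [cj_one])
          rwa [cj_one] at h2)
        have hX : cj g⁻¹ (M₀ ⊓ M) = M₀ ⊓ cj g⁻¹ M₀ := by
          rw [cj, Subgroup.map_inf _ _ _ (MulAut.conj g⁻¹).injective, inf_comm]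
          show cj g⁻¹ M ⊓ cj g⁻¹ M₀ = _
          rw [hMg, cj_inv_cj]
        have hne' : cj g⁻¹ M₀ ≠ M₀ := fun e => hMne (by rw [hMg]; conv_lhs => rw [← e, cj_cj_inv])
        have hA' : A ≤ cj g⁻¹ M₀ := by
          simpa only [cj_inv_cj] using cj_mono g⁻¹ (hgD.trans inf_le_left)
        obtain ⟨y, hy, hyD, hyT⟩ := hside _ (cj_isCoatom g⁻¹ hM₀) hne' hA'
          ⟨g⁻¹, hgA, hX ▸ cj_mono g⁻¹ (le_inf hAM₀ hAM)⟩
        refine ⟨g * y * g⁻¹, hMg ▸ mem_cj hy, fun h => hyD (hX ▸ ?_), ?_⟩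
        · exact ⟨g * y * g⁻¹, h, by simp [mul_assoc]⟩
        · have hT : cj g⁻¹ (sSup {C | (∃ h, C = cj h A) ∧ C ≤ M₀ ⊓ M}) =
              sSup {C | (∃ h, C = cj h A) ∧ C ≤ M₀ ⊓ cj g⁻¹ M₀} := by
            rw [← hX]
            refine le_antisymm (Subgroup.map_le_iff_le_comap.2 (sSup_le ?_)) (sSup_le ?_)
            · rintro C ⟨⟨h, rfl⟩, hC⟩
              refine Subgroup.map_le_iff_le_comap.1 (le_sSup ⟨⟨g⁻¹ * h, (cj_mul _ _ A).symm⟩, cj_mono _ hC⟩)
            · rintro C ⟨⟨h, rfl⟩, hC⟩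
              rw [← cj_inv_cj g (cj h A)]
              refine cj_mono _ (le_sSup ⟨⟨g * h, (cj_mul g h A).symm⟩, ?_⟩)
              simpa only [cj_cj_inv] using cj_mono g hC
          rw [← hT] at hyT
          rw [cj_mul, cj_mul, hyT, cj_cj_inv]
      obtain ⟨y, hy, hyD, hyT⟩ := hside M hM hMne hAM (by
        by_contra hex
        push Not at hex
        have hTA : sSup {C | (∃ h, C = cj h A) ∧ C ≤ M₀ ⊓ M} = A := by
          refine le_antisymm (sSup_le ?_) (le_sSup ⟨⟨1, (cj_one A).symm⟩, le_inf hAM₀ hAM⟩)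
          rintro C ⟨⟨h, rfl⟩, hC⟩
          by_contra hne
          exact hex h (fun e => hne e.le) hC
        rw [hTA] at hmT
        refine hmD ⟨hself M₀ hM₀ hAM₀ m ?_, hm⟩
        by_contra hne
        refine hnot ?_
        have h1 : SN (cj m⁻¹ A) (M₀) := by
          have h2 := hexc 1 (cj m M₀) (cj_isCoatom m hM₀) (by rw [cj_one, ← hmT]; exact cj_mono m hAM₀)
            (by rwa [cj_one])
          rw [cj_one] at h2
          simpa only [cj_inv_cj] using sn_cj m⁻¹ h2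
        have h3 : cj m⁻¹ A = A := by conv_lhs => rw [← hmT, cj_inv_cj]
        rwa [h3] at h1)
      obtain ⟨M', hM', hAM', hM'ne, hlt⟩ :=
        hfinish M₀ M hM₀ hM hMne.symm hAM₀ hAM y hy hyD m hm hmD hyT hmT
      rw [inf_comm M₀ M] at hlt
      exact hlt.not_ge (hmax (j := M') ⟨hM', hM'ne, hAM'⟩ hlt.le)

/-- The generalised zipper lemma. -/
theorem main (A : Subgroup G) (hA : Subgroup.normalClosure (A : Set G) = ⊤) (hAne : A ≠ ⊤)
    (hY : sSup {H : Subgroup G | A ≤ H ∧ H ≠ ⊤ ∧ Cls A H} ≠ ⊤) : ∃! M : Subgroup G, IsCoatom M ∧ A ≤ M :=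
  main_aux (Nat.card G) A (Nat.le_add_left _ _) hA hAne hY

end CfsgLib.GenZipper
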